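import Mathlib
import Cfsg.Agent.S3513
import Cfsg.Agent.S0000
import Cfsg.Agent.H12.KSch
import Cfsg.Agent.H32.NX9.RDef_m3
import Cfsg.Agent.H994.NX.Wie
import Cfsg.Agent.H37.NX.Top
import Cfsg.Agent.H37.NW.Red_m3
import Cfsg.Agent.H710.SumSquares
import Cfsg.Agent.H646.DefectBasic
import Cfsg.Agent.Blocks.ExistsModular
import Cfsg.Agent.S0964
import Cfsg.Agent.H37.NW.Main_mg
import Cfsg.Agent.S4760
import Cfsg.Agent.S4986
import Cfsg.Agent.FastGrp
import Cfsg.Agent.Prune
set_option linter.all false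
prune_inst 0x7f00000000000000000000000000000000000000000000000000000000000000000000000000000000000000000000000000000000000000000000000000000000000000000000000000000000000000003fffffffffffffffffffffffffffbeffbdfbfeffff
open scoped Cfsg.Agent.FastGrp

-- part: H229/NX/Ext
section
/-!
# S4979: the external facts used in the assembly of the layers (S3513 and the Schreier property)
-/

set_option autoImplicit false

open Cfsg

namespace Cfsg.Agent.H229.NX

universe u

theorem pow : Pow := fun n H hprim p hp hdiv h => by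
  rcases (Cfsg.Agent.S3513.result n H hprim p hp hdiv).1 h with ⟨h1, -⟩ | ⟨h1, h2, h3⟩ | h
  · exact Or.inl h1
  · exact Or.inr (Or.inl ⟨h1, h2, h3.imp id And.left⟩)
  · exact Or.inr (Or.inr h)

theorem sch (S : Type u) [Group S] [Finite S] (hs : IsSimpleGroup S) (hc : ¬ IsMulCommutative S) :
    Cfsg.Agent.Schreier.Basic.Sch S :=
  Cfsg.Agent.Schreier.Assembly.known S hc Cfsg.Agent.S0000.result

end Cfsg.Agent.H229.NX
end

-- part: H605/NX/Cop
section
/-!
# S4979: in the core situation the order of the group is prime to `q` (helper605)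

* `not_dvd_of_normalizer`: if some Sylow `q`-subgroup normalises a Sylow `p`-subgroup then `q ∤ |H|`;
* `exists_block`: a `q`-block of full defect lying over a given linear character of a central `q'`-group;
* `cop`: `q ∤ |H|` in the core situation.
-/

set_option autoImplicit false
set_option linter.style.haveILetI false

open Cfsg

namespace Cfsg.Agent.H605.NX

open Cfsg.Agent.Characters.Core Cfsg.Agent.H672
open Cfsg.Agent.H586.GW

universe u v

theorem not_dvd_pPrimeCore {q : ℕ} [hq : Fact q.Prime] {H : Type u} [Group H] [Finite H] :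
    ¬ q ∣ Nat.card (pPrimeCore q H) := fun h => hq.out.one_lt.ne' (Nat.dvd_one.1 (by
      have := Nat.dvd_gcd h (dvd_refl q)
      rwa [(Cfsg.Agent.Lib.Cores.pPrimeCore_coprime (G := H) q : (Nat.card _).Coprime q)] at this))

theorem inf_eq_bot_of_not_dvd {p : ℕ} [hp : Fact p.Prime] {H : Type u} [Group H] [Finite H]
    {K P : Subgroup H} (hP : IsPGroup p P) (pK : ¬ p ∣ Nat.card K) : P ⊓ K = ⊥ := by
  obtain ⟨k, hk⟩ := IsPGroup.iff_card.1 hP
  refine (Subgroup.disjoint_of_coprime_natCard ?_).eq_bot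
  rw [hk]
  exact Nat.Coprime.pow_left k ((Nat.Prime.coprime_iff_not_dvd hp.out).2 pK)

/-- a `q`-solvable group with a largest proper normal subgroup `K`, `|K|` prime to `p`, `|H : K|` prime to `q` and
divisible by `p`, in which a Sylow `q`-subgroup normalises a Sylow `p`-subgroup, is a `q'`-group -/
theorem not_dvd_of_normalizer {p q : ℕ} [hp : Fact p.Prime] [hq : Fact q.Prime] (hpq : p ≠ q)
    {H : Type u} [Group H] [Finite H] {K : Subgroup H} (nK : K.Normal)
    (maxK : ∀ M : Subgroup H, M.Normal → M ≠ ⊤ → M ≤ K)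
    (pK : ¬ p ∣ Nat.card K) (pS : p ∣ Nat.card (H ⧸ K)) (qS : ¬ q ∣ Nat.card (H ⧸ K))
    (qs : IsPSolvable q H) (Q : Sylow q H) (P : Sylow p H)
    (hQP : (Q : Subgroup H) ≤ Subgroup.normalizer ((P : Subgroup H) : Set H)) :
    ¬ q ∣ Nat.card H := by
  haveI := nK
  -- `Q ≤ K`
  have hQK : (Q : Subgroup H) ≤ K := mem_of_not_dvd_index nK
      (by rwa [Subgroup.index_eq_card]) Q.isPGroup'
  have hPK : (P : Subgroup H) ⊓ K = ⊥ := inf_eq_bot_of_not_dvd P.isPGroup' pK
  have hcomm : (P : Subgroup H) ≤ Subgroup.centralizer ((Q : Subgroup H) : Set H) := by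
    intro y hy
    rw [Subgroup.mem_centralizer_iff]
    intro x hx
    have h1 : x * y * x⁻¹ * y⁻¹ ∈ (P : Subgroup H) ⊓ K := by
      refine ⟨(P : Subgroup H).mul_mem ((Subgroup.mem_normalizer_iff.1 (hQP hx) y).1 hy)
        ((P : Subgroup H).inv_mem hy), ?_⟩
      have h2 : x * y * x⁻¹ * y⁻¹ = x * (y * x⁻¹ * y⁻¹) := by group
      rw [h2]
      exact K.mul_mem (hQK hx) (nK.conj_mem _ (K.inv_mem (hQK hx)) y)
    rw [hPK, Subgroup.mem_bot] at h1
    have h3 : x * y * x⁻¹ = y := mul_inv_eq_one.1 h1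
    exact mul_inv_eq_iff_eq_mul.1 h3
  -- the quotient by the core
  set R := pPrimeCore q H with hR
  have hsurj := QuotientGroup.mk'_surjective R
  have hcore : pPrimeCore q (H ⧸ R) = ⊥ := Cfsg.Agent.Lib.Cores.pPrimeCore_quotient_pPrimeCore q
  have hHH := Cfsg.Agent.Lib.PSolvable.centralizer_pCore_le_of_pSolvable (G := H ⧸ R) q
    (Cfsg.Agent.Lib.PSolvable.IsPSolvable_of_surjective q qs _ hsurj) hcore
  have h4 : pCore q (H ⧸ R) ≤ (Q : Subgroup H).map (QuotientGroup.mk' R) := by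
    have := Cfsg.Agent.Lib.Cores.pCore_le_sylow (Q.mapSurjective hsurj)
    rwa [Sylow.coe_mapSurjective] at this
  have h5 : (P : Subgroup H).map (QuotientGroup.mk' R) ≤ pCore q (H ⧸ R) := by
    refine le_trans ?_ hHH
    rintro _ ⟨y, hy, rfl⟩
    rw [Subgroup.mem_centralizer_iff]
    intro z hz
    obtain ⟨x, hx, rfl⟩ := h4 hz
    rw [← map_mul, ← map_mul, Subgroup.mem_centralizer_iff.1 (hcomm hy) x hx]
  have h6 : (P : Subgroup H).map (QuotientGroup.mk' R) = ⊥ := by
    have h7 : IsPGroup p ((P : Subgroup H).map (QuotientGroup.mk' R)) := P.isPGroup'.map _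
    have h8 : ¬ p ∣ Nat.card (pCore q (H ⧸ R)) := by
      obtain ⟨k, hk⟩ := IsPGroup.iff_card.1 (Cfsg.Agent.Lib.Cores.pCore_isPGroup (G := H ⧸ R) q)
      rw [hk]
      intro h
      exact hpq ((Nat.prime_dvd_prime_iff_eq hp.out hq.out).1 (hp.out.dvd_of_dvd_pow h))
    have h9 := inf_eq_bot_of_not_dvd h7 h8
    rwa [inf_eq_left.2 h5] at h9
  have h10 : (P : Subgroup H) ≤ R := by
    rw [Subgroup.map_eq_bot_iff, QuotientGroup.ker_mk'] at h6
    exact h6
  have h11 : R = ⊤ := by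
    by_contra hne
    have h12 : (P : Subgroup H) ≤ K := h10.trans (maxK R inferInstance hne)
    have h13 : (P : Subgroup H) = ⊥ := by rw [← hPK, inf_eq_left.2 h12]
    have h14 : Nat.card P = 1 := by rw [h13]; exact Subgroup.card_bot
    have h15 : p ∣ Nat.card H := pS.trans (Subgroup.card_quotient_dvd_card K)
    have h16 := P.dvd_card_of_dvd_card h15
    rw [h14] at h16
    exact hp.out.one_lt.ne' (Nat.dvd_one.1 h16)
  have h17 := not_dvd_pPrimeCore (q := q) (H := H)
  rw [← hR, h11, Subgroup.card_top] at h17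
  exact h17

/-- a `q`-block of full defect whose members lie over the linear character `φ` of the central `q'`-group `N` -/
theorem exists_block {q : ℕ} [hq : Fact q.Prime] {H : Type u} [Group H] [Finite H] {N : Subgroup H}
    (hN : N ≤ Subgroup.center H) (qN : ¬ q ∣ Nat.card N) (φ : N →* ℂˣ) (M : Ideal AlgInt)
    (hM : IsPModular q M) :
    ∃ B : Set (IrrCharacter H), IsPBlock M B ∧ (∀ Q : Sylow q H, IsDefectGroup q M B (Q : Subgroup H)) ∧
      ∀ χ ∈ B, ∀ n : N, (χ : H → ℂ) n = (χ : H → ℂ) 1 * φ n := by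
  classical
  letI : Fintype H := Fintype.ofFinite H
  letI : Fintype N := Fintype.ofFinite N
  haveI : M.IsPrime := Cfsg.Agent.Blocks.Local.isPrime_of_isPModular hM
  haveI hNn : N.Normal := ⟨fun n hn g => by
    rw [Subgroup.mem_center_iff.1 (hN hn) g, mul_inv_cancel_right]; exact hn⟩
  obtain ⟨Q⟩ : Nonempty (Sylow q H) := inferInstance
  -- the direct product
  let f : N × Q →* H := MonoidHom.noncommCoprod N.subtype (Q : Subgroup H).subtype
    (fun a b => (Subgroup.mem_center_iff.1 (hN a.2) (b : H)).symm)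
  have hf : ∀ x : N × Q, f x = (x.1 : H) * x.2 := fun x => rfl
  have hNQ : (Q : Subgroup H) ⊓ N = ⊥ := inf_eq_bot_of_not_dvd Q.isPGroup' qN
  have hinj : Function.Injective f := by
    rw [injective_iff_map_eq_one]
    rintro ⟨a, b⟩ hab
    rw [hf] at hab
    have h1 : (b : H) ∈ (Q : Subgroup H) ⊓ N := by
      refine ⟨b.2, ?_⟩
      have : (b : H) = (a : H)⁻¹ := by
        rw [eq_inv_iff_mul_eq_one, Subgroup.mem_center_iff.1 (hN a.2) (b : H)]
        exact hab
      rw [this]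
      exact N.inv_mem a.2
    rw [hNQ, Subgroup.mem_bot] at h1
    have h2 : (a : H) = 1 := by
      have := hab
      simp only [h1, mul_one] at this
      exact this
    exact Prod.ext (Subtype.ext h2) (Subtype.ext h1)
  let T : Subgroup H := f.range
  letI : Fintype T := Fintype.ofFinite T
  let e : N × Q ≃* T := MonoidHom.ofInjective hinj
  let l : T →* ℂˣ := (φ.comp (MonoidHom.fst N Q)).comp e.symm.toMonoidHom
  have hQT : (Q : Subgroup H) ≤ T := by
    intro x hx
    exact ⟨(1, ⟨x, hx⟩), by rw [hf]; simp⟩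
  have hNT : N ≤ T := by
    intro x hx
    exact ⟨(⟨x, hx⟩, 1), by rw [hf]; simp⟩
  have hTi : ¬ q ∣ T.index := fun h => Q.not_dvd_index (h.trans (Subgroup.index_dvd_of_le hQT))
  have hl : ∀ n : N, l ⟨n, hNT n.2⟩ = φ n := by
    intro n
    have : e.symm ⟨n, hNT n.2⟩ = (n, 1) := by
      rw [MulEquiv.symm_apply_eq]
      apply Subtype.ext
      show (n : H) = f (n, 1)
      rw [hf]; simp
    show φ (e.symm ⟨n, hNT n.2⟩).1 = φ n
    rw [this]
  obtain ⟨χ, hχd, hχo⟩ := Cfsg.Agent.H710.SumSquares.exists_over (p := q) T hTi ⟨lf l, isIrr_lf l⟩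
    (by
      show ¬ q ∣ charDegree (lf l)
      rw [charDegree_lf]
      exact fun h => hq.out.one_lt.ne' (Nat.dvd_one.1 h))
  -- `χ` lies over `φ`
  have hover : Over N.subtype (χ : H → ℂ) (lf φ) := by
    have h1 : (N.subtype : N →* H) = T.subtype.comp (Subgroup.inclusion hNT) := rfl
    rw [h1, over_comp_iff _ _ (isIrr_isCharacter χ.2) (isIrr_lf φ)]
    refine ⟨lf l, isIrr_lf l, (over_iff _ _ _).2 hχo, ?_⟩
    rw [over_iff]
    have h2 : lf l ∘ (Subgroup.inclusion hNT) = lf φ := by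
      funext n
      show ((l ⟨n, hNT n.2⟩ : ℂˣ) : ℂ) = φ n
      rw [hl]
    rw [h2, classInner_irr_self (isIrr_lf φ)]
    exact one_ne_zero
  -- the block
  refine ⟨blockOf M (χ : H → ℂ), ⟨χ, rfl⟩, ?_, ?_⟩
  · intro S
    exact (Cfsg.Agent.H646.DefectBasic.isDefectGroup_iff_sylow hM ⟨χ, rfl⟩ (χ := χ)
      (Cfsg.Agent.Blocks.Basic.mem_blockOf_self χ) hχd _).2 ⟨S, rfl⟩
  · intro χ' hχ'
    have hb : IsPBlock M ({⟨lf φ, isIrr_lf φ⟩} : Set (IrrCharacter N)) := by
      refine ⟨⟨lf φ, isIrr_lf φ⟩, ?_⟩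
      refine ((Cfsg.Agent.S0914.result q M hM ⟨lf φ, isIrr_lf φ⟩).1 ?_).symm
      intro hd
      exact qN (hd.trans (Nat.div_dvd_of_dvd (Cfsg.Agent.Blocks.Knorr.charDegree_dvd (isIrr_lf φ))))
    obtain ⟨ψ, hψ, hψo⟩ := exists_under (f := N.subtype) χ'.2
    have h5 : classInner (fun n : N => (χ : H → ℂ) n) (lf φ) ≠ 0 :=
      (over_iff N.subtype (χ : H → ℂ) (lf φ)).1 hover
    have h6 : classInner (fun n : N => (χ' : H → ℂ) n) ψ ≠ 0 :=
      (over_iff N.subtype (χ' : H → ℂ) ψ).1 hψo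
    obtain ⟨g, θ', hθ', hg⟩ := Cfsg.Agent.S0964.result q M hM N (blockOf M (χ : H → ℂ)) ⟨χ, rfl⟩
      ({⟨lf φ, isIrr_lf φ⟩} : Set (IrrCharacter N)) hb χ
      (Cfsg.Agent.Blocks.Basic.mem_blockOf_self χ) ⟨lf φ, isIrr_lf φ⟩ (Set.mem_singleton _) h5 χ' hχ'
      ⟨ψ, hψ⟩ h6
    rw [Set.mem_singleton_iff] at hθ'
    subst hθ'
    have h3 : ψ = lf φ := by
      funext n
      rw [show ψ n = _ from hg n]
      show lf φ _ = lf φ n
      congr 1
      apply Subtype.ext
      show g * (n : H) * g⁻¹ = n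
      rw [Subgroup.mem_center_iff.1 (hN n.2) g, mul_inv_cancel_right]
    rw [h3] at hψo
    have hc : ∀ n : N, N.subtype n ∈ Subgroup.center H := fun n => hN n.2
    have h4 := (Cfsg.Agent.H672.RM.over_lin_iff N.subtype hc χ'.2 φ).1 hψo
    exact h4

open Cfsg.Agent.H37.NX (Core2 T1)
open Cfsg.Agent.H37.NW (Invt DegP reduce)

/-- `O_{q'}` of a subgroup has smaller index -/
theorem index_pPrimeCore_le {q : ℕ} [hq : Fact q.Prime] {H : Type u} [Group H] [Finite H]
    (T : Subgroup H) : (pPrimeCore q T).index ≤ (pPrimeCore q H).index := by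
  have h1 : (pPrimeCore q H).subgroupOf T ≤ pPrimeCore q T := by
    refine Cfsg.Agent.Lib.Cores.le_pPrimeCore inferInstance ?_
    refine ((Nat.Prime.coprime_iff_not_dvd hq.out).2 fun h => ?_).symm
    exact not_dvd_pPrimeCore (q := q) (H := H)
      (h.trans (Subgroup.card_comap_dvd_of_injective _ T.subtype T.subtype_injective))
  calc (pPrimeCore q T).index ≤ ((pPrimeCore q H).subgroupOf T).index :=
        Nat.le_of_dvd (Nat.pos_of_ne_zero Subgroup.index_ne_zero_of_finite) (Subgroup.index_dvd_of_le h1)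
    _ ≤ (pPrimeCore q H).index :=
        Nat.le_of_dvd (Nat.pos_of_ne_zero Subgroup.index_ne_zero_of_finite)
          (Subgroup.relIndex_dvd_index_of_normal _ _)

/-- A Sylow `r`-subgroup normalises a Sylow `p`-subgroup if all characters over `φ` have degree prime to `p`. -/
theorem exists_le_normalizer {p r : ℕ} [hp : Fact p.Prime] [hr : Fact r.Prime] (hpr : p ≠ r) {H : Type u}
    [Group H] [Finite H] {N : Subgroup H} {φ : N →* ℂˣ} (cen : N ≤ Subgroup.center H)
    (rN : ¬ r ∣ Nat.card N) (rs : IsPSolvable r H)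
    (hdeg : ∀ χ : H → ℂ, IsIrrCharacter H χ → (∀ n : N, χ n = χ 1 * φ n) → ¬ p ∣ charDegree χ)
    (ih : ∀ k ≤ N.index, T1.{u} p r k) (Q : Sylow r H) :
    ∃ P : Sylow p H, (Q : Subgroup H) ≤ Subgroup.normalizer ((P : Subgroup H) : Set H) := by
  classical
  obtain ⟨M, hM⟩ := Cfsg.Agent.Blocks.ExistsModular.exists_isPModular hr.out
  obtain ⟨B, hB, hD, hov⟩ := exists_block cen rN φ M hM
  have hNn : N.Normal := ⟨fun n hn g => by
    rw [Subgroup.mem_center_iff.1 (cen hn) g, mul_inv_cancel_right]; exact hn⟩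
  have hidx : (pPrimeCore r H).index ≤ N.index := by
    refine Nat.le_of_dvd (Nat.pos_of_ne_zero Subgroup.index_ne_zero_of_finite)
      (Subgroup.index_dvd_of_le (Cfsg.Agent.Lib.Cores.le_pPrimeCore hNn ?_))
    exact ((Nat.Prime.coprime_iff_not_dvd hr.out).2 rN).symm
  refine reduce (p := p) (q := r) hpr
    (fun G _ => Finite G ∧ IsPSolvable r G ∧ (pPrimeCore r G).index ≤ N.index) ?_ ?_ ?_
    (Nat.card H) H rfl ⟨inferInstance, rs, hidx⟩ M hM B hB (Q : Subgroup H) (hD Q)
    (fun χ hχ => hdeg χ χ.2 (hov χ hχ))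
  · rintro G _ T ⟨h1, h2, h3⟩
    exact ⟨inferInstance,
      Cfsg.Agent.Lib.PSolvable.IsPSolvable_of_injective r h2 T.subtype T.subtype_injective,
      (index_pPrimeCore_le T).trans h3⟩
  · rintro G _ _ ⟨-, h2, -⟩
    exact h2
  · rintro G _ _ ⟨-, h2, h3⟩ θ hinv hDP
    haveI : (pPrimeCore r G).Normal := Cfsg.Agent.Lib.Cores.pPrimeCore_normal r
    refine ih _ h3 (pPrimeCore r G) (θ : _ → ℂ) θ.2 ?_ h2 rfl rfl ?_
    · rw [eq_top_iff]
      intro g _
      rw [mem_inertia_iff]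
      intro n
      exact hinv g n
    · intro χ hχ hov hd
      let _ := Fintype.ofFinite (pPrimeCore r G)
      rw [over_iff] at hov
      exact hDP ⟨χ, hχ⟩ hov ((dvd_mul_right _ _).trans hd)

section core
variable {p q : ℕ} [hp : Fact p.Prime] [hq : Fact q.Prime] {H V : Type u} [Group H] [Finite H]
    [AddCommGroup V] [Finite V] [DistribMulAction H V] {K N : Subgroup H} {φ : N →* ℂˣ}

omit hp hq in
/-- `P2` for `v = 0` -/
theorem deg_of_core (C : Core2 (V := V) p q K N φ) (χ : H → ℂ) (hχ : IsIrrCharacter H χ)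
    (hov : ∀ n : N, χ n = χ 1 * φ n) : ¬ p ∣ charDegree χ := by
  have h0 : MulAction.stabilizer H (0 : V) = ⊤ := by
    rw [eq_top_iff]
    intro h _
    exact smul_zero h
  exact C.P2 0 (χ ∘ (MulAction.stabilizer H (0 : V)).subtype)
    (isIrr_comp (MulAction.stabilizer H (0 : V)).subtype
      (fun h => ⟨⟨h, by rw [h0]; trivial⟩, rfl⟩) hχ)
    (fun n hn hn' => hov ⟨n, hn⟩)

omit hq in
/-- In the core situation, given the theorem for smaller index and the prime `r`: if `r` does not divide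
`|H / K| |N|` and `H` is `r`-solvable then `r ∤ |H|`. -/
theorem cop_r (C : Core2 (V := V) p q K N φ) {r : ℕ} [hr : Fact r.Prime] (hpr : p ≠ r)
    (ih : ∀ k ≤ N.index, T1.{u} p r k) (rN : ¬ r ∣ Nat.card N) (rS : ¬ r ∣ Nat.card (H ⧸ K))
    (rs : IsPSolvable r H) : ¬ r ∣ Nat.card H := by
  obtain ⟨Q⟩ : Nonempty (Sylow r H) := inferInstance
  obtain ⟨P, hP⟩ := exists_le_normalizer hpr C.cen rN rs (deg_of_core C) ih Q
  exact not_dvd_of_normalizer hpr C.nK C.maxK C.pK C.pS rS rs Q P hP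

/-- In the core situation, given the theorem for smaller index, `|H|` is prime to `q`. -/
theorem cop (C : Core2 (V := V) p q K N φ) (ih : ∀ k ≤ N.index, T1.{u} p q k) :
    ¬ q ∣ Nat.card H :=
  cop_r C C.ne ih C.qN C.qS C.qs

end core

end Cfsg.Agent.H605.NX
end

-- part: H37/NX/Main
section
/-!
# S4979 from the non-existence of the perfect core situation
-/

set_option autoImplicit false
set_option linter.style.haveILetI false
set_option linter.unusedSectionVars false

open Cfsg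

namespace Cfsg.Agent.H37.NX

open Cfsg.Agent.Characters.Core Cfsg.Agent.Characters.Clifford Cfsg.Agent.H672
open Cfsg.Agent.H672.RM (over_lin_iff)
open Cfsg.Agent.H586.GW
open Cfsg.Agent.H37.NW (relP_up relP_subgroupOf le_centralizer_of_coprime inertia_central relP_twist
  psolvable_transfer core_transfer NoCoreS reduce exists_triple')

universe u

/-- The perfect core situation does not occur, with the induction hypothesis (for all primes) and
the fact that `V` is a coprime module. -/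
def NoCoreI (p q : ℕ) : Prop :=
  ∀ {H V : Type u} [Group H] [Finite H] [AddCommGroup V] [Finite V] [DistribMulAction H V]
    (K N : Subgroup H) (φ : N →* ℂˣ),
    (∀ r : ℕ, r.Prime → p ≠ r → ∀ k < Nat.card V * N.index, T1.{u} p r k) →
    ¬ q ∣ Nat.card H → ¬ Core2 (V := V) p q K N φ

/-- The perfect core situation does not occur for coprime modules. -/
def NoCore2c (p q : ℕ) : Prop :=
  ∀ {H V : Type u} [Group H] [Finite H] [AddCommGroup V] [Finite V] [DistribMulAction H V]
    (K N : Subgroup H) (φ : N →* ℂˣ), ¬ q ∣ Nat.card H → ¬ Core2 (V := V) p q K N φ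

theorem noCoreI_of_noCore2c {p q : ℕ} (h : NoCore2c.{u} p q) : NoCoreI.{u} p q :=
  fun K N φ _ => h K N φ

/-- The statement of S4986. -/
def OddRel : Prop :=
  ∀ {G : Type u} [Group G] [Finite G] (N : Subgroup G) [N.Normal] (φ : Cfsg.IrrCharacter ↥N),
    (∀ (g : G) (n m : ↥N), (m : G) = g * n * g⁻¹ → (φ : ↥N → ℂ) m = (φ : ↥N → ℂ) n) →
    (∀ χ : Cfsg.IrrCharacter G,
      (∑ᶠ n : ↥N, (χ : G → ℂ) n * (starRingEnd ℂ) ((φ : ↥N → ℂ) n)) ≠ 0 →
      Odd (Cfsg.charDegree (χ : G → ℂ) / Cfsg.charDegree (φ : ↥N → ℂ))) →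
    Group.IsSolvable (G ⧸ N)

variable {p q : ℕ} [hp : Fact p.Prime] [hq : Fact q.Prime] {G : Type u} [Group G] [Finite G]
  {Z : Subgroup G} {l : Z →* ℂˣ}

theorem Ctx.not_ps (hT : NoCoreS.{u} p q) (C : Ctx p q Z l) : ¬ IsPSolvable p G := by
  intro h
  haveI := C.zn
  exact Cfsg.Agent.H37.NW.t1_of_noCore hT C.ne Z.index Z (lf l) (isIrr_lf l)
    (inertia_central C.cen _) h C.qs C.core rfl C.rel C.dvd

theorem Ctx.false_two (hT : NoCoreS.{u} p q) (h86 : OddRel.{u}) (C : Ctx p q Z l) : p ≠ 2 := by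
  rintro rfl
  haveI := C.zn
  apply C.not_ps hT
  have h1 : Group.IsSolvable (G ⧸ Z) := by
    refine h86 Z ⟨lf l, isIrr_lf l⟩ ?_ ?_
    · intro g n m hmn
      have h2 : (m : G) = n := by
        rw [hmn, (Subgroup.mem_center_iff.1 (C.cen n.2) g), mul_inv_cancel_right]
      rw [Subtype.ext h2]
    · intro χ hχ
      have h2 : Over Z.subtype (χ : G → ℂ) (lf l) := by
        classical
        letI := Fintype.ofFinite Z
        rw [over_iff, classInner_def]
        refine mul_ne_zero (inv_ne_zero ?_) ?_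
        · exact_mod_cast Nat.card_pos.ne'
        · rw [finsum_eq_sum_of_fintype] at hχ
          exact hχ
      have h3 := C.rel χ χ.2 h2
      rw [charDegree_lf, mul_one] at h3
      have h4 : charDegree ((⟨lf l, isIrr_lf l⟩ : IrrCharacter Z) : Z → ℂ) = 1 := charDegree_lf l
      rw [h4, Nat.div_one, ← Nat.not_even_iff_odd, even_iff_two_dvd]
      exact h3
  haveI : Group.IsSolvable G := by
    have h2 : Group.IsSolvable Z := Group.isSolvable_of_comm (fun a b => Subtype.ext
      (Subgroup.mem_center_iff.1 (C.cen b.2) (a : G)))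
    exact Group.isSolvable_of_ker_le_range Z.subtype (QuotientGroup.mk' Z) (by
      rw [QuotientGroup.ker_mk', Subgroup.range_subtype])
  exact Cfsg.Agent.Lib.PSolvable.IsPSolvable_of_solvable 2

theorem Ctx.false (him : IM.{u} p) (hT : NoCoreS.{u} p q) (h86 : OddRel.{u})
    (h : NoCoreI.{u} p q) (C : Ctx p q Z l) : False := by
  obtain ⟨U, X, K, F⟩ := C.exists_fin
  obtain ⟨H, V, i1, i2, i3, i4, i5, K', N, φ, hs, hps, hC⟩ := core1_of_fin F
  have h2 := core2_of_core1 him (C.false_two hT h86) C.ne hs (fun h => C.not_ps hT (hps h)) hC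
  refine h _ _ _ hC.ihL ?_ h2
  refine Cfsg.Agent.H605.NX.cop h2 ?_
  intro k hk
  refine hC.ihL q hq.out C.ne k (lt_of_le_of_lt hk ?_)
  haveI := h2.nt
  have h3 : 2 ≤ Nat.card V := Finite.one_lt_card
  have h4 : 0 < (N.subgroupOf (commutator H)).index :=
    Nat.pos_of_ne_zero Subgroup.index_ne_zero_of_finite
  nlinarith

theorem Pre.false (him : IM.{u} p) (hT : NoCoreS.{u} p q) (h86 : OddRel.{u})
    (h : NoCoreI.{u} p q) (C : Pre p q Z l) : False := by
  obtain ⟨ν, b, hb, hν⟩ := exists_nu C.cen C.rel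
  let l' : Z →* ℂˣ := l * (ν.comp Z.subtype)⁻¹
  have hl' : ∀ z : Z, l' z = l z * (ν z)⁻¹ := fun _ => rfl
  have C' : Pre p q Z l' := ⟨C.ne, C.cen, C.qZ, C.qs, C.core,
    relP_twist C.cen C.rel ν l' hl', C.dvd, C.iha⟩
  obtain ⟨Q, i1, i2, Z', l'', C''⟩ := exists_ctx C' hb hν
  exact C''.false him hT h86 h

/-- The theorem for invariant characters. -/
theorem t1_of_noCoreI {p : ℕ} [hp : Fact p.Prime] (him : IM.{u} p)
    (hT : ∀ q : ℕ, q.Prime → p ≠ q → NoCoreS.{u} p q) (h86 : OddRel.{u})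
    (h : ∀ q : ℕ, q.Prime → p ≠ q → NoCoreI.{u} p q) (n : ℕ) :
    ∀ q : ℕ, q.Prime → p ≠ q → T1.{u} p q n := by
  induction n using Nat.strong_induction_on with
  | _ n ih =>
    intro q hq hpq G _ _ N _ θ hθ hinv hqs hN hn hrel hdvd
    haveI : Fact q.Prime := ⟨hq⟩
    obtain ⟨Δ, Q, i1, i2, i3, π, m, Z, l, hπ, hm, hc, hZc, h1, h2⟩ :=
      exists_triple' (p := p) N hθ hinv
    have hqZ : ¬ q ∣ Nat.card Z := by
      intro hd
      have h3 := h2 q hq hd
      rw [← hN] at h3
      have h4 := Nat.dvd_gcd h3 (dvd_refl q)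
      rw [(Cfsg.Agent.Lib.Cores.pPrimeCore_coprime (G := G) q : (Nat.card _).Coprime q)] at h4
      exact hq.one_lt.ne' (Nat.dvd_one.1 h4)
    have hidx : Z.index = n := by
      rw [← hn, ← Subgroup.index_comap_of_surjective N hπ, hc,
        Subgroup.index_comap_of_surjective Z hm]
    have hqs' : IsPSolvable q Q := psolvable_transfer hπ hm hc hZc
      (Cfsg.Agent.Lib.PSolvable.IsPSolvable_of_surjective q hqs _ (QuotientGroup.mk'_surjective N))
    exact Pre.false him (hT q hq hpq) h86 (h q hq hpq) ⟨hpq, hZc, hqZ, hqs',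
      core_transfer hπ hm hc hZc hN hqZ, h1 hrel, by rw [hidx]; exact hdvd,
      by rw [hidx]; exact fun r hr hpr k hk => ih k hk r hr hpr⟩

/-- S4979 from the non-existence of the perfect core situation. -/
theorem s4979_of_noCoreI {G : Type u} [Group G] [Finite G] (p q : ℕ) [Fact p.Prime] [Fact q.Prime]
    (him : IM.{u} p) (hT : ∀ q : ℕ, q.Prime → p ≠ q → NoCoreS.{u} p q) (h86 : OddRel.{u})
    (hcore : ∀ q : ℕ, q.Prime → p ≠ q → NoCoreI.{u} p q)
    (hpq : p ≠ q) (hsolvq : Cfsg.IsPSolvable q G) (M : Ideal Cfsg.AlgInt)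
    (hM : Cfsg.IsPModular q M)
    (B : Set (Cfsg.IrrCharacter G)) (hB : Cfsg.IsPBlock M B) (Q : Subgroup G)
    (hQ : Cfsg.IsDefectGroup q M B Q) (hdeg : ∀ χ ∈ B, ¬ p ∣ Cfsg.charDegree (χ : G → ℂ)) :
    ∃ P : Sylow p G, Q ≤ Subgroup.normalizer ((P : Subgroup G) : Set G) := by
  refine reduce (p := p) (q := q) hpq (fun G _ => IsPSolvable q G) ?_ ?_ ?_
    (Nat.card G) G rfl hsolvq M hM B hB Q hQ hdeg
  · intro G _ H h2
    exact Cfsg.Agent.Lib.PSolvable.IsPSolvable_of_injective q h2 H.subtype H.subtype_injective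
  · intro G _ _ h2
    exact h2
  · intro G _ _ h2 θ hinv hD
    haveI : (pPrimeCore q G).Normal := Cfsg.Agent.Lib.Cores.pPrimeCore_normal q
    refine t1_of_noCoreI him hT h86 hcore (pPrimeCore q G).index q Fact.out hpq (pPrimeCore q G)
      (θ : _ → ℂ) θ.2 ?_ h2 rfl rfl ?_
    · rw [eq_top_iff]
      intro g _
      rw [mem_inertia_iff]
      intro n
      exact hinv g n
    · intro χ hχ hov hd
      let _ := Fintype.ofFinite (pPrimeCore q G)
      rw [over_iff] at hov
      exact hD ⟨χ, hχ⟩ hov ((dvd_mul_right _ _).trans hd)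

end Cfsg.Agent.H37.NX
end

-- part: H37/NX/Glue
section
/-!
# S4979: everything but the non-existence of the perfect core situation
-/

set_option autoImplicit false

open Cfsg

namespace Cfsg.Agent.H37.NX

universe u

theorem im (p : ℕ) [hp : Fact p.Prime] : IM.{u} p := by
  intro G _ _ h
  obtain ⟨P⟩ : Nonempty (Sylow p G) := inferInstance
  exact ⟨P, ((Cfsg.Agent.S4760.result p P).2 (fun χ => h χ χ.2)).1⟩

theorem oddRel : OddRel.{u} := fun N _ φ h1 h2 => Cfsg.Agent.S4986.result N φ h1 h2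

/-- S4979 from the non-existence of the perfect core situation. -/
theorem s4979_final {G : Type u} [Group G] [Finite G] (p q : ℕ) [Fact p.Prime] [Fact q.Prime]
    (hcore : ∀ q : ℕ, q.Prime → p ≠ q → NoCoreI.{u} p q)
    (hpq : p ≠ q) (hsolvq : Cfsg.IsPSolvable q G) (M : Ideal Cfsg.AlgInt)
    (hM : Cfsg.IsPModular q M)
    (B : Set (Cfsg.IrrCharacter G)) (hB : Cfsg.IsPBlock M B) (Q : Subgroup G)
    (hQ : Cfsg.IsDefectGroup q M B Q) (hdeg : ∀ χ ∈ B, ¬ p ∣ Cfsg.charDegree (χ : G → ℂ)) :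
    ∃ P : Sylow p G, Q ≤ Subgroup.normalizer ((P : Subgroup G) : Set G) :=
  s4979_of_noCoreI p q (im p)
    (fun _ hq hpq => Cfsg.Agent.H37.NW.noCoreS_r Fact.out hq (Ne.symm hpq)) oddRel
    hcore hpq hsolvq M hM B hB Q hQ hdeg

end Cfsg.Agent.H37.NX
end
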